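import Mathlib.RingTheory.Polynomial.Eisenstein.Basic
import Mathlib.RingTheory.Polynomial.GaussLemma
import Mathlib.RingTheory.DiscreteValuationRing.Basic
import Mathlib.RingTheory.RootsOfUnity.AlgebraicallyClosed
import Mathlib.RingTheory.Polynomial.Eisenstein.IsIntegral
import Mathlib.FieldTheory.Galois.Infinite
import Mathlib.FieldTheory.Galois.Profinite
import Mathlib.FieldTheory.IsSepClosed
import Mathlib.RingTheory.Valuation.ValuationSubring
import Mathlib.FieldTheory.KummerExtension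
import Mathlib.FieldTheory.PurelyInseparable.Basic

/-!
Galois groups of fields with a valuation for which every automorphism is inertial: elements fixing
an `r`-th root of a uniformizer (`r` prime to the residue characteristic) are products of two
`r`-th powers.
-/

set_option autoImplicit false
universe u

noncomputable section

namespace Groth.L15.TameGal

open Polynomial IsLocalRing
open scoped Pointwise

variable {R K Ω : Type u} [CommRing R] [IsDomain R] [IsDiscreteValuationRing R] [Field K] [Algebra R K]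
  [IsFractionRing R K] [Field Ω] [Algebra K Ω] [IsSepClosure K Ω]

variable (R K) in
/-- The standing hypotheses on a valuation subring of `Ω`. -/
structure Inertial (W : ValuationSubring Ω) : Prop where
  mem : ∀ a : R, algebraMap K Ω (algebraMap R K a) ∈ W
  lt : ∀ a ∈ maximalIdeal R, W.valuation (algebraMap K Ω (algebraMap R K a)) < 1
  inertia : ∀ σ : Ω ≃ₐ[K] Ω, ∀ x ∈ W, σ x ∈ W ∧ W.valuation (σ x - x) < 1

local notation "ι" => fun a : R => algebraMap K Ω (algebraMap R K a)

theorem isGalois : IsGalois K Ω := inferInstance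

variable (K) in
include K in
theorem natCast_ne_zero {n : ℕ} (hn : (n : ResidueField R) ≠ 0) : (n : Ω) ≠ 0 := by
  intro h
  have h1 : algebraMap K Ω (algebraMap R K (n : R)) = 0 := by simpa using h
  rw [map_eq_zero, map_eq_zero_iff _ (IsFractionRing.injective R K)] at h1
  exact hn (by rw [← map_natCast (residue R), h1, map_zero])

variable (K) in
include K in
theorem exists_root {n : ℕ} (hn : (n : ResidueField R) ≠ 0) (x : Ω) : ∃ z : Ω, z ^ n = x := by
  haveI : IsSepClosed Ω := IsSepClosure.sep_closed K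
  haveI : NeZero (n : Ω) := ⟨natCast_ne_zero K hn⟩
  exact IsSepClosed.exists_pow_nat_eq x n

variable {W : ValuationSubring Ω} (h : Inertial R K W)

include h in
theorem val_unit {a : R} (ha : IsUnit a) : W.valuation (algebraMap K Ω (algebraMap R K a)) = 1 := by
  obtain ⟨u, rfl⟩ := ha
  refine le_antisymm ((W.valuation_le_one_iff _).mpr (h.mem _)) ?_
  have h1 : W.valuation (algebraMap K Ω (algebraMap R K ((u⁻¹ : Rˣ) : R))) ≤ 1 :=
    (W.valuation_le_one_iff _).mpr (h.mem _)
  calc (1 : _) = W.valuation (algebraMap K Ω (algebraMap R K (u : R))) *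
        W.valuation (algebraMap K Ω (algebraMap R K ((u⁻¹ : Rˣ) : R))) := by
        rw [← map_mul, ← map_mul, ← map_mul, Units.mul_inv]; simp
    _ ≤ _ := mul_le_of_le_one_right' h1

include h in
theorem root_eq_one {n : ℕ} (hn : (n : ResidueField R) ≠ 0) {η : Ω} (hη : η ^ n = 1)
    (hlt : W.valuation (η - 1) < 1) : η = 1 := by
  by_contra hne
  have hv : W.valuation (n : Ω) = 1 := by
    have hu : IsUnit (n : R) := (residue_ne_zero_iff_isUnit _).mp (by rwa [map_natCast])
    simpa using val_unit h hu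
  have hn0 : n ≠ 0 := by rintro rfl; simp at hn
  have hv1 : W.valuation η = 1 := (pow_eq_one_iff.mp (by rw [← map_pow, hη, map_one])).resolve_right hn0
  have hpow : ∀ i : ℕ, W.valuation (η ^ i - 1) < 1 := by
    intro i
    rw [← geom_sum_mul, map_mul]
    exact lt_of_le_of_lt (mul_le_of_le_one_left' (W.valuation.map_sum_le fun j _ => by
      rw [map_pow, hv1, one_pow])) hlt
  have hgs : ∑ i ∈ Finset.range n, η ^ i = 0 := by
    have := geom_sum_mul η n
    rw [hη, sub_self, mul_eq_zero, sub_eq_zero] at this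
    exact this.resolve_right hne
  have : W.valuation (∑ i ∈ Finset.range n, (η ^ i - 1)) < 1 :=
    W.valuation.map_sum_lt (by simp) fun i _ => hpow i
  rw [Finset.sum_sub_distrib, hgs, Finset.sum_const, Finset.card_range, nsmul_eq_mul, mul_one, zero_sub,
    Valuation.map_neg, hv] at this
  exact lt_irrefl _ this

include h in
theorem unit_root_fix {n : ℕ} (hn : (n : ResidueField R) ≠ 0) (σ : Ω ≃ₐ[K] Ω) {c : Ω}
    (hc : W.valuation c = 1) (hfix : σ (c ^ n) = c ^ n) : σ c = c := by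
  have hc0 : c ≠ 0 := fun h0 => by simp [h0] at hc
  have hη : σ c / c = 1 := by
    refine root_eq_one h hn (by rw [div_pow, ← map_pow, hfix, div_self (pow_ne_zero _ hc0)]) ?_
    rw [show σ c / c - 1 = (σ c - c) / c by field_simp, map_div₀, hc, div_one]
    exact (h.inertia σ c ((W.valuation_le_one_iff c).mp hc.le)).2
  exact (div_eq_one_iff_eq hc0).mp hη

include h in
theorem mu_fix {n : ℕ} (hn : (n : ResidueField R) ≠ 0) (σ : Ω ≃ₐ[K] Ω) {ζ : Ω} (hζ : ζ ^ n = 1) :
    σ ζ = ζ := by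
  have hn0 : n ≠ 0 := by rintro rfl; simp at hn
  exact unit_root_fix h hn σ ((pow_eq_one_iff.mp (by rw [← map_pow, hζ, map_one])).resolve_right hn0) (by rw [hζ, map_one])

include h in
theorem exists_primitiveRoot {n : ℕ} (hn : (n : ResidueField R) ≠ 0) (L : IntermediateField K Ω) :
    (primitiveRoots n L).Nonempty := by
  haveI : IsSepClosed Ω := IsSepClosure.sep_closed K
  haveI := isGalois (K := K) (Ω := Ω)
  haveI : NeZero (n : Ω) := ⟨natCast_ne_zero K hn⟩
  have hn0 : 0 < n := Nat.pos_of_ne_zero (by rintro rfl; simp at hn)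
  obtain ⟨ζ, hζ⟩ := HasEnoughRootsOfUnity.exists_primitiveRoot Ω n
  obtain ⟨k, hk⟩ := IntermediateField.mem_bot.mp
    ((InfiniteGalois.mem_bot_iff_fixed ζ).mpr fun σ => mu_fix h hn σ hζ.pow_eq_one)
  refine ⟨algebraMap K L k, (mem_primitiveRoots hn0).mpr ?_⟩
  exact IsPrimitiveRoot.of_map_of_injective (f := L.val) (by rw [AlgHom.commutes, hk]; exact hζ) L.val.injective

variable {ϖ : R} (hϖ : Irreducible ϖ)

include h hϖ in
theorem val_torsion {a : Ω} (ha : a ≠ 0) :
    ∃ M i j : ℕ, 0 < M ∧ W.valuation a ^ M * W.valuation (ι ϖ) ^ i = W.valuation (ι ϖ) ^ j := by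
  classical
  haveI := isGalois (K := K) (Ω := Ω)
  have hint : IsIntegral K a := Algebra.IsIntegral.isIntegral a
  set p := minpoly K a with hp
  have hπ0 : W.valuation (ι ϖ) ≠ 0 := (Valuation.ne_zero_iff _).mpr ((_root_.map_ne_zero _).mpr
    ((map_ne_zero_iff _ (IsFractionRing.injective R K)).mpr hϖ.ne_zero))
  have hcoef : ∀ c : K, c ≠ 0 → ∃ i j : ℕ,
      W.valuation (algebraMap K Ω c) * W.valuation (ι ϖ) ^ i = W.valuation (ι ϖ) ^ j := by
    intro c hc
    obtain ⟨x, y, hy, rfl⟩ := IsFractionRing.div_surjective (A := R) c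
    have hx : x ≠ 0 := by rintro rfl; simp at hc
    obtain ⟨j, u, rfl⟩ := IsDiscreteValuationRing.eq_unit_mul_pow_irreducible hx hϖ
    obtain ⟨i, v, rfl⟩ := IsDiscreteValuationRing.eq_unit_mul_pow_irreducible (nonZeroDivisors.ne_zero hy) hϖ
    refine ⟨i, j, ?_⟩
    simp only [map_div₀, map_mul, map_pow, val_unit h u.isUnit, val_unit h v.isUnit, one_mul]
    exact div_mul_cancel₀ _ (pow_ne_zero _ hπ0)
  let f : ℕ → Ω := fun m => algebraMap K Ω (p.coeff m) * a ^ m
  have hsum : ∑ m ∈ p.support, f m = 0 := by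
    rw [← minpoly.aeval K a, aeval_def, eval₂_eq_sum]
    rfl
  obtain ⟨m₀, hm₀, hmax⟩ := p.support.exists_max_image (fun m => W.valuation (f m))
    (Polynomial.support_nonempty.mpr (minpoly.ne_zero hint))
  have hf0 : W.valuation (f m₀) ≠ 0 := (Valuation.ne_zero_iff _).mpr
    (mul_ne_zero ((_root_.map_ne_zero _).mpr (mem_support_iff.mp hm₀)) (pow_ne_zero _ ha))
  obtain ⟨m₁, hm₁, hne, heq⟩ : ∃ m₁ ∈ p.support, m₁ ≠ m₀ ∧ W.valuation (f m₁) = W.valuation (f m₀) := by
    by_contra hcon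
    refine hf0 ?_
    rw [← W.valuation.map_sum_eq_of_lt hm₀ fun m hm => ?_, hsum, map_zero]
    rw [Finset.mem_sdiff, Finset.mem_singleton] at hm
    exact lt_of_le_of_ne (hmax m hm.1) fun he => hcon ⟨m, hm.1, hm.2, he⟩
  have key : ∀ s t : ℕ, s < t → p.coeff s ≠ 0 → p.coeff t ≠ 0 → W.valuation (f s) = W.valuation (f t) →
      ∃ M i j : ℕ, 0 < M ∧ W.valuation a ^ M * W.valuation (ι ϖ) ^ i = W.valuation (ι ϖ) ^ j := by
    intro s t hst hs ht he
    obtain ⟨i, j, hij⟩ := hcoef _ hs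
    obtain ⟨i', j', hij'⟩ := hcoef _ ht
    obtain ⟨d, rfl⟩ : ∃ d, t = s + d := ⟨t - s, by omega⟩
    refine ⟨d, i + j', i' + j, by omega, ?_⟩
    simp only [f, map_mul, map_pow, pow_add, ← mul_assoc] at he
    have hva : W.valuation a ^ s ≠ 0 := pow_ne_zero _ ((Valuation.ne_zero_iff _).mpr ha)
    have he' : W.valuation (algebraMap K Ω (p.coeff s)) =
        W.valuation (algebraMap K Ω (p.coeff (s + d))) * W.valuation a ^ d := by
      refine mul_right_cancel₀ hva ?_
      rw [he, mul_right_comm]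
    rw [pow_add, pow_add, ← hij, ← hij', he']
    ac_rfl
  rcases lt_or_gt_of_ne hne with hlt | hlt
  · exact key _ _ hlt (mem_support_iff.mp hm₁) (mem_support_iff.mp hm₀) heq
  · exact key _ _ hlt (mem_support_iff.mp hm₀) (mem_support_iff.mp hm₁) heq.symm

/-- `σ` fixes all the tame roots of `ϖ`. -/
def Wild (ϖ : R) (σ : Ω ≃ₐ[K] Ω) : Prop :=
  ∀ n : ℕ, (n : ResidueField R) ≠ 0 → ∀ z : Ω, z ^ n = algebraMap K Ω (algebraMap R K ϖ) → σ z = z

include h hϖ in
theorem wild_root {w : Ω ≃ₐ[K] Ω} (hw : Wild ϖ w) {q : ℕ} (hq : (q : ResidueField R) ≠ 0) {c : Ω}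
    (ha : w (c ^ q) = c ^ q) : w c = c := by
  by_cases hc : c = 0
  · simp [hc]
  set a := c ^ q with hac
  have ha0 : a ≠ 0 := pow_ne_zero _ hc
  obtain ⟨M, i, j, hM, hMij⟩ := val_torsion h hϖ ha0
  obtain ⟨pp, s, M', hM', hq', hMeq⟩ : ∃ pp s M' : ℕ, (M' : ResidueField R) ≠ 0 ∧
      Nat.Coprime q (pp ^ s) ∧ M = pp ^ s * M' := by
    rcases CharP.exists (ResidueField R) with ⟨p, hp⟩
    rcases CharP.char_is_prime_or_zero (ResidueField R) p with hpp | rfl
    · obtain ⟨s, M', hM', hMeq⟩ := Nat.exists_eq_pow_mul_and_not_dvd hM.ne' p hpp.ne_one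
      refine ⟨p, s, M', fun h0 => hM' ((CharP.cast_eq_zero_iff (ResidueField R) p M').mp h0), ?_, hMeq⟩
      exact Nat.Coprime.pow_right s ((Nat.Prime.coprime_iff_not_dvd hpp).mpr
        fun hd => hq ((CharP.cast_eq_zero_iff (ResidueField R) p q).mpr hd)).symm
    · haveI := CharP.charP_to_charZero (ResidueField R)
      exact ⟨1, 0, M, Nat.cast_ne_zero.mpr hM.ne', by simp, by simp⟩
  have hM'q : ((M' * q : ℕ) : ResidueField R) ≠ 0 := by push_cast; exact mul_ne_zero hM' hq
  obtain ⟨z, hz⟩ := exists_root K hM'q (algebraMap K Ω (algebraMap R K ϖ))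
  have hwz : w z = z := hw _ hM'q z hz
  have hπ0 : algebraMap K Ω (algebraMap R K ϖ) ≠ 0 :=
    (_root_.map_ne_zero _).mpr ((map_ne_zero_iff _ (IsFractionRing.injective R K)).mpr hϖ.ne_zero)
  have hM'0 : M' ≠ 0 := by rintro rfl; simp at hM'
  have hq0 : q ≠ 0 := by rintro rfl; simp at hq
  have hz0 : z ≠ 0 := fun h0 => hπ0 (by
    simpa [h0, Nat.mul_ne_zero hM'0 hq0] using hz.symm)
  set d := c ^ pp ^ s * z ^ i / z ^ j with hd
  have hdq : (d ^ q) ^ M' = a ^ M * (ι ϖ) ^ i / (ι ϖ) ^ j := by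
    simp only
    rw [hd, ← hz, hac, hMeq, div_pow, div_pow, mul_pow, mul_pow]
    simp only [← pow_mul]
    ring_nf
  have hvd : W.valuation d = 1 := by
    have : W.valuation ((d ^ q) ^ M') = 1 := by
      rw [hdq]
      simp only [map_div₀, map_mul, map_pow]
      rw [hMij, div_self (pow_ne_zero _ ((Valuation.ne_zero_iff _).mpr hπ0))]
    rw [map_pow, map_pow, ← pow_mul] at this
    exact (pow_eq_one_iff.mp this).resolve_right (Nat.mul_ne_zero hq0 hM'0)
  have hwa : w (d ^ q) = d ^ q := by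
    rw [hd, div_pow, mul_pow, ← pow_mul c, mul_comm (pp ^ s) q, pow_mul c q, ← hac]
    simp only [map_div₀, map_mul, map_pow, ha, hwz]
  have hwd := unit_root_fix h hq w hvd hwa
  have hcs : w (c ^ pp ^ s) = c ^ pp ^ s := by
    rw [hd, map_div₀, map_mul, map_pow w z, map_pow w z, hwz] at hwd
    exact mul_right_cancel₀ (pow_ne_zero i hz0) ((div_left_inj' (pow_ne_zero j hz0)).mp hwd)
  have h1 : (w c / c) ^ q = 1 := by
    rw [div_pow, ← map_pow, ← hac, ha, div_self ha0]
  have h2 : (w c / c) ^ pp ^ s = 1 := by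
    rw [div_pow, ← map_pow, hcs, div_self (pow_ne_zero _ hc)]
  have h3 := pow_gcd_eq_one.mpr ⟨h1, h2⟩
  rw [hq', pow_one] at h3
  exact (div_eq_one_iff_eq hc).mp h3

include h hϖ in
theorem wild_finite {w : Ω ≃ₐ[K] Ω} (hw : Wild ϖ w) (L : IntermediateField K Ω) [FiniteDimensional K L]
    [IsGalois K L] {q : ℕ} (hqp : q.Prime) (hq : (q : ResidueField R) ≠ 0) :
    ¬ q ∣ orderOf (AlgEquiv.restrictNormalHom L w) := by
  intro hdvd
  set s := AlgEquiv.restrictNormalHom L w
  set k := orderOf s / q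
  set s' := s ^ k with hs'
  have hord : orderOf s' = q := orderOf_pow_orderOf_div (orderOf_pos s).ne' hdvd
  let F := IntermediateField.fixedField (Subgroup.zpowers s')
  have hrank : Module.finrank F L = q := by
    rw [IntermediateField.finrank_fixedField_eq_card, Nat.card_zpowers, hord]
  haveI : IsGalois F L := IsGalois.tower_top_of_isGalois K F L
  haveI : Fact q.Prime := ⟨hqp⟩
  haveI : IsCyclic Gal(L/F) := isCyclic_of_prime_card (p := q)
    (by rw [IsGalois.card_aut_eq_finrank, hrank])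
  have hroots : (primitiveRoots (Module.finrank F L) F).Nonempty := by
    rw [hrank]
    obtain ⟨ζ, hζ⟩ := exists_primitiveRoot h hq (⊥ : IntermediateField K Ω)
    rw [mem_primitiveRoots hqp.pos] at hζ
    let e := (IntermediateField.botEquiv K Ω).toAlgHom
    refine ⟨algebraMap K F (e ζ), (mem_primitiveRoots hqp.pos).mpr ?_⟩
    exact (hζ.map_of_injective (f := e) (IntermediateField.botEquiv K Ω).injective).map_of_injective
      (algebraMap K F).injective
  obtain ⟨α, ⟨a₀, ha₀⟩, htop⟩ := exists_root_adjoin_eq_top_of_isCyclic F L hroots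
  rw [hrank] at ha₀
  -- the power of `w`
  have hwk : ∀ x : L, ((s' x : L) : Ω) = (w ^ k) (x : Ω) := fun x => by
    rw [hs', ← map_pow]
    exact AlgEquiv.restrictNormal_commutes (w ^ k) L x
  have hwild : Wild ϖ (w ^ k) := by
    intro n hn z hz
    induction k with
    | zero => simp
    | succ k ih => rw [pow_succ, AlgEquiv.mul_apply, hw n hn z hz, ih]
  have hfix : (w ^ k) ((α : Ω) ^ q) = (α : Ω) ^ q := by
    have h1 : s' (α ^ q) = α ^ q := by
      rw [← ha₀]
      exact (a₀.2) ⟨s', Subgroup.mem_zpowers s'⟩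
    have := hwk (α ^ q)
    rw [h1] at this
    simpa using this.symm
  have hα : s' α = α := Subtype.ext ((hwk α).trans (wild_root h hϖ hwild hq hfix))
  have hαF : α ∈ F := by
    intro g
    obtain ⟨m, hm⟩ := Subgroup.mem_zpowers_iff.mp g.2
    show (g : Gal(L/K)) α = α
    rw [← hm]
    exact (MulAction.stabilizer (Gal(L/K)) (α)).zpow_mem (show _ ∈ MulAction.stabilizer (Gal(L/K)) (α) from hα) m
  have : IntermediateField.adjoin F {α} = ⊥ := IntermediateField.adjoin_simple_eq_bot_iff.mpr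
    (IntermediateField.mem_bot.mpr ⟨⟨α, hαF⟩, rfl⟩)
  rw [this] at htop
  have h1 : Module.finrank F L = 1 := IntermediateField.bot_eq_top_iff_finrank_eq_one.mp htop
  rw [hrank] at h1
  exact hqp.one_lt.ne' h1

include h hϖ in
theorem wild_eq_pow {w : Ω ≃ₐ[K] Ω} (hw : Wild ϖ w) {r : ℕ} (hr : (r : ResidueField R) ≠ 0) :
    ∃ y : Ω ≃ₐ[K] Ω, y ^ r = w := by
  classical
  haveI := isGalois (K := K) (Ω := Ω)
  let T : FiniteGaloisIntermediateField K Ω → Set (Ω ≃ₐ[K] Ω) := fun L =>
    (fun y => y ^ r) ⁻¹' ((w • ((L : IntermediateField K Ω).fixingSubgroup : Set (Ω ≃ₐ[K] Ω))))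
  have hmem : ∀ L y, y ∈ T L ↔ ∀ x ∈ (L : IntermediateField K Ω), (y ^ r) x = w x := fun L y => by
    simp only [T, Set.mem_preimage, mem_leftCoset_iff, SetLike.mem_coe, IntermediateField.mem_fixingSubgroup_iff]
    refine forall₂_congr fun x _ => ?_
    rw [AlgEquiv.mul_apply]
    exact ⟨fun e => (AlgEquiv.apply_symm_apply w _).symm.trans (congrArg w e),
      fun e => by rw [e]; exact w.symm_apply_apply x⟩
  have hclosed : ∀ L, IsClosed (T L) := fun L =>
    (L.toIntermediateField.fixingSubgroup_isClosed.leftCoset w).preimage (continuous_pow r)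
  have hne : ∀ L, (T L).Nonempty := fun L => by
    set s := AlgEquiv.restrictNormalHom (L : IntermediateField K Ω) w
    have hcop : r.Coprime (orderOf s) := Nat.coprime_of_dvd fun k hk hkr hks =>
      wild_finite h hϖ hw (L : IntermediateField K Ω) hk (fun h0 => hr (by
        obtain ⟨c, rfl⟩ := hkr; push_cast; rw [h0, zero_mul])) hks
    obtain ⟨m, hm⟩ := exists_pow_eq_self_of_coprime hcop
    obtain ⟨y, hy⟩ := AlgEquiv.restrictNormalHom_surjective (E := Ω) (s ^ m)
    refine ⟨y, (hmem L y).mpr fun x hx => ?_⟩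
    have he : AlgEquiv.restrictNormalHom (L : IntermediateField K Ω) (y ^ r) = s := by
      rw [map_pow, hy, ← pow_mul, mul_comm, pow_mul, hm]
    have h1 := AlgEquiv.restrictNormal_commutes (y ^ r) (L : IntermediateField K Ω) ⟨x, hx⟩
    have h2 := AlgEquiv.restrictNormal_commutes w (L : IntermediateField K Ω) ⟨x, hx⟩
    rw [show AlgEquiv.restrictNormal (y ^ r) (L : IntermediateField K Ω) = AlgEquiv.restrictNormal w _ from he] at h1
    exact h1.symm.trans h2
  obtain ⟨y, hy⟩ : (⋂ L, T L).Nonempty := by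
    by_contra hcon
    obtain ⟨t, ht⟩ := isCompact_univ.elim_finite_subfamily_closed T hclosed
      (by rw [Set.univ_inter, Set.not_nonempty_iff_eq_empty.mp hcon])
    obtain ⟨y, hy⟩ := hne (t.sup id)
    refine Set.eq_empty_iff_forall_notMem.mp ht y ⟨trivial, Set.mem_iInter₂.mpr fun L hL => (hmem L y).mpr
      fun x hx => (hmem _ y).mp hy x (?_)⟩
    exact (show L ≤ t.sup id from Finset.le_sup (f := id) hL) hx
  refine ⟨y, AlgEquiv.ext fun x => ?_⟩
  let L := FiniteGaloisIntermediateField.adjoin K ({x} : Set Ω)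
  exact (hmem L y).mp (Set.mem_iInter.mp hy L) x (FiniteGaloisIntermediateField.subset_adjoin K _ rfl)

omit [Field Ω] [Algebra K Ω] [IsSepClosure K Ω] in
theorem irreducible_X_pow_sub {ϖ : R} (hϖ : Irreducible ϖ) {n : ℕ} (hn : 0 < n) :
    Irreducible ((X : K[X]) ^ n - C (algebraMap R K ϖ)) := by
  have h : ((X : R[X]) ^ n - C ϖ).IsEisensteinAt (maximalIdeal R) :=
    { leading := by
        rw [(monic_X_pow_sub_C ϖ hn.ne').leadingCoeff]
        exact (Ideal.ne_top_iff_one _).mp (maximalIdeal.isMaximal R).ne_top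
      mem := fun {i} hi => by
        rw [natDegree_X_pow_sub_C] at hi
        rw [coeff_sub, coeff_X_pow, if_neg hi.ne, zero_sub, coeff_C]
        split_ifs
        · exact neg_mem (hϖ.not_isUnit)
        · simp
      notMem := by
        rw [coeff_sub, coeff_X_pow, if_neg hn.ne, zero_sub, coeff_C_zero, hϖ.maximalIdeal_eq, Ideal.span_singleton_pow,
          Ideal.mem_span_singleton, dvd_neg]
        rintro ⟨c, hc⟩
        exact hϖ.not_isUnit (IsUnit.of_mul_eq_one c (mul_left_cancel₀ hϖ.ne_zero (by linear_combination -hc))) }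
  have hirr := h.irreducible (maximalIdeal.isMaximal R).isPrime (monic_X_pow_sub_C ϖ hn.ne').isPrimitive
    (by rw [natDegree_X_pow_sub_C]; exact hn)
  have := (monic_X_pow_sub_C ϖ hn.ne').irreducible_iff_irreducible_map_fraction_map (K := K) |>.mp hirr
  simpa using this

include hϖ in
theorem exists_aut {n : ℕ} (hn : 0 < n) {z z' : Ω} (hz : z ^ n = algebraMap K Ω (algebraMap R K ϖ))
    (hz' : z' ^ n = algebraMap K Ω (algebraMap R K ϖ)) : ∃ σ : Ω ≃ₐ[K] Ω, σ z = z' := by
  haveI := isGalois (K := K) (Ω := Ω)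
  have hmin : ∀ {x : Ω}, x ^ n = algebraMap K Ω (algebraMap R K ϖ) →
      minpoly K x = X ^ n - C (algebraMap R K ϖ) := fun {x} hx =>
    (minpoly.eq_of_irreducible_of_monic (irreducible_X_pow_sub hϖ hn) (by simp [hx])
      (monic_X_pow_sub_C _ hn.ne')).symm
  obtain ⟨σ, hσ⟩ := (Normal.minpoly_eq_iff_mem_orbit Ω).mp ((hmin hz').trans (hmin hz).symm)
  exact ⟨σ, hσ⟩

include h hϖ in
theorem eq_pow_mul_pow {r : ℕ} (hr : (r : ResidueField R) ≠ 0) {ρ : Ω}
    (hρ : ρ ^ r = algebraMap K Ω (algebraMap R K ϖ)) {σ : Ω ≃ₐ[K] Ω} (hσ : σ ρ = ρ) :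
    ∃ y y' : Ω ≃ₐ[K] Ω, σ = y ^ r * y' ^ r := by
  classical
  haveI := isGalois (K := K) (Ω := Ω)
  have hπ0 : algebraMap K Ω (algebraMap R K ϖ) ≠ 0 :=
    (_root_.map_ne_zero _).mpr ((map_ne_zero_iff _ (IsFractionRing.injective R K)).mpr hϖ.ne_zero)
  have hr0 : r ≠ 0 := by rintro rfl; simp at hr
  have hne0 : ∀ {n : ℕ}, (n : ResidueField R) ≠ 0 → n ≠ 0 := fun hn h0 => hn (by rw [h0, Nat.cast_zero])
  choose z hz using fun n : {n : ℕ // (n : ResidueField R) ≠ 0} => exists_root K n.2 (algebraMap K Ω (algebraMap R K ϖ))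
  let Z : {n : ℕ // (n : ResidueField R) ≠ 0} → IntermediateField K Ω := fun n => IntermediateField.adjoin K {z n}
  let T : {n : ℕ // (n : ResidueField R) ≠ 0} → Set (Ω ≃ₐ[K] Ω) := fun n =>
    (fun y => y ^ r) ⁻¹' (σ • ((Z n).fixingSubgroup : Set (Ω ≃ₐ[K] Ω)))
  have hclosed : ∀ n, IsClosed (T n) := fun n => by
    haveI : FiniteDimensional K (Z n) :=
      IntermediateField.adjoin.finiteDimensional (Algebra.IsIntegral.isIntegral (z n))
    exact ((Z n).fixingSubgroup_isClosed.leftCoset σ).preimage (continuous_pow r)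
  have hfixall : ∀ (n : {n : ℕ // (n : ResidueField R) ≠ 0}) (τ : Ω ≃ₐ[K] Ω), τ (z n) = z n →
      τ ∈ (Z n).fixingSubgroup := fun n τ hτ => by
    rw [IntermediateField.mem_fixingSubgroup_iff]
    intro x hx
    have : IntermediateField.adjoin K {z n} ≤ IntermediateField.fixedField (Subgroup.zpowers τ) := by
      rw [IntermediateField.adjoin_simple_le_iff, IntermediateField.mem_fixedField_iff]
      intro g hg
      obtain ⟨m, rfl⟩ := Subgroup.mem_zpowers_iff.mp hg
      exact (MulAction.stabilizer (Gal(Ω/K)) (z n)).zpow_mem (show _ ∈ MulAction.stabilizer (Gal(Ω/K)) (z n) from hτ) m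
    exact (IntermediateField.mem_fixedField_iff _ _).mp (this hx) τ (Subgroup.mem_zpowers τ)
  have hmem : ∀ n y, y ∈ T n ↔ (y ^ r) (z n) = σ (z n) := fun n y => by
    simp only [T, Set.mem_preimage, mem_leftCoset_iff, SetLike.mem_coe]
    constructor
    · intro hy
      have := (IntermediateField.mem_fixingSubgroup_iff _ _).mp hy (z n) (IntermediateField.mem_adjoin_simple_self K _)
      rw [AlgEquiv.mul_apply] at this
      exact (AlgEquiv.apply_symm_apply σ _).symm.trans (congrArg σ this)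
    · intro hy
      refine hfixall n _ ?_
      rw [AlgEquiv.mul_apply, hy]; exact σ.symm_apply_apply (z n)
  -- one `y` for finitely many `n`
  have hne : ∀ t : Finset {n : ℕ // (n : ResidueField R) ≠ 0}, ∃ y, ∀ n ∈ t, y ∈ T n := by
    intro t
    set N : ℕ := ∏ n ∈ t, (n : ℕ)
    have hN : (N : ResidueField R) ≠ 0 := by
      simp only [N, Nat.cast_prod]
      exact Finset.prod_ne_zero_iff.mpr fun n _ => n.2
    have hNr : ((N * r : ℕ) : ResidueField R) ≠ 0 := by push_cast; exact mul_ne_zero hN hr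
    obtain ⟨z', hz'⟩ := exists_root K hNr (algebraMap K Ω (algebraMap R K ϖ))
    have hz0 : z' ≠ 0 := fun h0 => hπ0 (by rw [← hz', h0, zero_pow (hne0 hNr)])
    have hρ0 : ρ ≠ 0 := fun h0 => hπ0 (by rw [← hρ, h0, zero_pow hr0])
    have hfix : σ (z' ^ N) = z' ^ N := by
      have hη : σ (z' ^ N / ρ) = z' ^ N / ρ := mu_fix h hr σ (by
        rw [div_pow, ← pow_mul, hz', hρ, div_self hπ0])
      rw [map_div₀, hσ] at hη
      exact (div_left_inj' hρ0).mp hη
    set ζ := σ z' / z' with hζ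
    obtain ⟨η, hη⟩ := exists_root K hr ζ
    have hηN : η ^ (N * r) = 1 := by
      rw [mul_comm, pow_mul, hη, hζ, div_pow, ← map_pow, hfix, div_self (pow_ne_zero _ hz0)]
    obtain ⟨y, hy⟩ := exists_aut hϖ (Nat.pos_of_ne_zero (hne0 hNr)) hz'
      (show (η * z') ^ (N * r) = _ by rw [mul_pow, hηN, one_mul, hz'])
    have hyk : ∀ k : ℕ, (y ^ k) z' = η ^ k * z' := by
      intro k
      induction k with
      | zero => simp
      | succ k ih =>
        rw [pow_succ', AlgEquiv.mul_apply, ih, map_mul, map_pow, mu_fix h hNr y hηN, hy, pow_succ, mul_assoc]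
    have hyz : (y ^ r) z' = σ z' := by rw [hyk, hη, hζ, div_mul_cancel₀ _ hz0]
    refine ⟨y, fun n hn => (hmem n y).mpr ?_⟩
    obtain ⟨m, hm⟩ : (n : ℕ) ∣ N := Finset.dvd_prod_of_mem (fun n : {n : ℕ // (n : ResidueField R) ≠ 0} => (n : ℕ)) hn
    have hμ : (z n / (z' ^ (r * m))) ^ (n : ℕ) = 1 := by
      rw [div_pow, hz, ← pow_mul, show r * m * n = N * r by rw [hm]; ring, hz', div_self hπ0]
    rw [show z n = z n / (z' ^ (r * m)) * z' ^ (r * m) from (div_mul_cancel₀ _ (pow_ne_zero _ hz0)).symm, map_mul,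
      map_mul, mu_fix h n.2 (y ^ r) hμ, mu_fix h n.2 σ hμ, map_pow, map_pow, hyz]
  obtain ⟨y, hy⟩ : (⋂ n, T n).Nonempty := by
    by_contra hcon
    obtain ⟨t, ht⟩ := isCompact_univ.elim_finite_subfamily_closed T hclosed
      (by rw [Set.univ_inter, Set.not_nonempty_iff_eq_empty.mp hcon])
    obtain ⟨y, hy⟩ := hne t
    exact Set.eq_empty_iff_forall_notMem.mp ht y ⟨trivial, Set.mem_iInter₂.mpr hy⟩
  have hwild : Wild ϖ ((y ^ r)⁻¹ * σ) := by
    intro n hn z₁ hz₁
    let n' : {n : ℕ // (n : ResidueField R) ≠ 0} := ⟨n, hn⟩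
    have h1 := (hmem n' y).mp (Set.mem_iInter.mp hy n')
    have h2 : ((y ^ r)⁻¹ * σ) (z n') = z n' := by
      rw [AlgEquiv.mul_apply, ← h1]; exact (y ^ r).symm_apply_apply (z n')
    have hz0 : z n' ≠ 0 := fun h0 => hπ0 (by rw [← hz n', h0, zero_pow (hne0 hn)])
    have hμ : (z₁ / z n') ^ n = 1 := by rw [div_pow, hz₁, hz n', div_self hπ0]
    rw [show z₁ = z₁ / z n' * z n' from (div_mul_cancel₀ _ hz0).symm, map_mul, mu_fix h hn _ hμ, h2]
  obtain ⟨y', hy'⟩ := wild_eq_pow h hϖ hwild hr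
  exact ⟨y, y', by rw [hy', mul_inv_cancel_left]⟩

end Groth.L15.TameGal
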